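import Groth.Agent.Lib.GaPts.Basic

/-! Rank one calculus from the commutation rule, written on `X`-points through global functions. -/

universe u

open CategoryTheory CategoryTheory.Limits MonoidalCategory CartesianMonoidalCategory MonObj AlgebraicGeometry

noncomputable section

namespace Groth.Agent.RankOne

variable {S : Scheme.{u}} {G T : Over S} [GrpObj G] [GrpObj T]

/-- hypotheses of the rank-one rows -/
structure Datum (i : T ⟶ G) (α : T ⟶ Red.Gm S) (pp pm : Red.Ga S ⟶ G) (av : Red.Gm S ⟶ T) : Prop where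
  hom_i : IsMonHom i
  hom_pp : IsMonHom pp
  hom_pm : IsMonHom pm
  hom_av : IsMonHom av
  hpp : ∀ (X : Over S) (t : X ⟶ T) (x : X ⟶ Red.Ga S), ∃ x' : X ⟶ Red.Ga S,
      x' ≫ pp = (t ≫ i) * (x ≫ pp) * (t ≫ i)⁻¹ ∧ Red.gaFn x' = Red.gmFn (t ≫ α) * Red.gaFn x
  hpm : ∀ (X : Over S) (t : X ⟶ T) (y : X ⟶ Red.Ga S), ∃ y' : X ⟶ Red.Ga S,
      y' ≫ pm = (t ≫ i) * (y ≫ pm) * (t ≫ i)⁻¹ ∧ Red.gaFn y' * Red.gmFn (t ≫ α) = Red.gaFn y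
  h2 : av ≫ α = (𝟙 (Red.Gm S)) ^ 2
  hF : ∀ (X : Over S) (x y : X ⟶ Red.Ga S), IsUnit (1 + Red.gaFn x * Red.gaFn y) →
      ∃ (x' y' : X ⟶ Red.Ga S) (z : X ⟶ Red.Gm S), Red.gmFn z = 1 + Red.gaFn x * Red.gaFn y ∧
        Red.gaFn x' * Red.gmFn z = Red.gaFn x ∧ Red.gaFn y' * Red.gmFn z = Red.gaFn y ∧
        (x ≫ pp) * (y ≫ pm) = (y' ≫ pm) * (z ≫ av ≫ i) * (x' ≫ pp)

variable {X : Over S}

/-- the point `f(a)` for a homomorphism `f` from 𝔾_a -/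
def P (f : Red.Ga S ⟶ G) (a : Γ(X.left, ⊤)) : X ⟶ G := GaPts.ptOfFn a ≫ f

/-- the point `i(av(v))` -/
def A (i : T ⟶ G) (av : Red.Gm S ⟶ T) (v : (Γ(X.left, ⊤))ˣ) : X ⟶ G := GmPts.ptOfUnit v ≫ av ≫ i

omit [GrpObj G] in
theorem comp_eq_P (f : Red.Ga S ⟶ G) (x : X ⟶ Red.Ga S) : x ≫ f = P f (Red.gaFn x) := by
  rw [P, GaPts.gaFn_injective (GaPts.gaFn_ptOfFn (S := S) (Red.gaFn x))]

omit [GrpObj G] [GrpObj T] in
theorem comp_eq_A (i : T ⟶ G) (av : Red.Gm S ⟶ T) (z : X ⟶ Red.Gm S) :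
    z ≫ av ≫ i = A i av (GmPts.unitOfPt z) := by
  rw [A, GmPts.ptOfUnit_unitOfPt]

variable {i : T ⟶ G} {α : T ⟶ Red.Gm S} {pp pm : Red.Ga S ⟶ G} {av : Red.Gm S ⟶ T}

theorem P_add {f : Red.Ga S ⟶ G} [IsMonHom f] (a b : Γ(X.left, ⊤)) : P f (a + b) = P f a * P f b := by
  rw [P, P, P, GaPts.ptOfFn_add, MonObj.mul_comp]

theorem P_zero {f : Red.Ga S ⟶ G} [IsMonHom f] : P f (0 : Γ(X.left, ⊤)) = 1 := by
  rw [P, GaPts.ptOfFn_zero, MonObj.one_comp]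

theorem P_neg {f : Red.Ga S ⟶ G} [IsMonHom f] (a : Γ(X.left, ⊤)) : P f (-a) = (P f a)⁻¹ :=
  eq_inv_of_mul_eq_one_left (by rw [← P_add, neg_add_cancel, P_zero])

theorem A_mul [IsMonHom i] [IsMonHom av] (v w : (Γ(X.left, ⊤))ˣ) : A i av (v * w) = A i av v * A i av w := by
  rw [A, A, A, GmPts.ptOfUnit_mul, MonObj.mul_comp]

theorem A_one [IsMonHom i] [IsMonHom av] : A i av (1 : (Γ(X.left, ⊤))ˣ) = 1 := by
  rw [A, GmPts.ptOfUnit_one, MonObj.one_comp]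

theorem A_inv [IsMonHom i] [IsMonHom av] (v : (Γ(X.left, ⊤))ˣ) : A i av v⁻¹ = (A i av v)⁻¹ :=
  eq_inv_of_mul_eq_one_left (by rw [← A_mul, inv_mul_cancel, A_one])

variable (D : Datum i α pp pm av)
include D

theorem conj_P (t : X ⟶ T) (a : Γ(X.left, ⊤)) :
    (t ≫ i) * P pp a * (t ≫ i)⁻¹ = P pp ((GmPts.unitOfPt (t ≫ α) : Γ(X.left, ⊤)) * a) := by
  obtain ⟨x', h1, h2⟩ := D.hpp X t (GaPts.ptOfFn a)
  rw [GaPts.gaFn_ptOfFn] at h2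
  rw [P, ← h1, comp_eq_P, h2]
  rfl

theorem conj_M (t : X ⟶ T) (a : Γ(X.left, ⊤)) :
    (t ≫ i) * P pm a * (t ≫ i)⁻¹ = P pm ((((GmPts.unitOfPt (t ≫ α))⁻¹ : (Γ(X.left, ⊤))ˣ) : Γ(X.left, ⊤)) * a) := by
  obtain ⟨y', h1, h2⟩ := D.hpm X t (GaPts.ptOfFn a)
  rw [GaPts.gaFn_ptOfFn] at h2
  rw [P, ← h1, comp_eq_P]
  congr 1
  rw [eq_comm, Units.inv_mul_eq_iff_eq_mul, GmPts.val_unitOfPt, mul_comm, h2]

theorem conjInv_P (t : X ⟶ T) (a : Γ(X.left, ⊤)) :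
    (t ≫ i)⁻¹ * P pp a * (t ≫ i) = P pp ((((GmPts.unitOfPt (t ≫ α))⁻¹ : (Γ(X.left, ⊤))ˣ) : Γ(X.left, ⊤)) * a) := by
  have h := conj_P D t ((((GmPts.unitOfPt (t ≫ α))⁻¹ : (Γ(X.left, ⊤))ˣ) : Γ(X.left, ⊤)) * a)
  rw [Units.mul_inv_cancel_left] at h
  rw [← h]
  simp [_root_.mul_assoc]

theorem conjInv_M (t : X ⟶ T) (a : Γ(X.left, ⊤)) :
    (t ≫ i)⁻¹ * P pm a * (t ≫ i) = P pm ((GmPts.unitOfPt (t ≫ α) : Γ(X.left, ⊤)) * a) := by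
  have h := conj_M D t ((GmPts.unitOfPt (t ≫ α) : Γ(X.left, ⊤)) * a)
  rw [Units.inv_mul_cancel_left] at h
  rw [← h]
  simp [_root_.mul_assoc]

theorem unitOfPt_av (v : (Γ(X.left, ⊤))ˣ) : GmPts.unitOfPt ((GmPts.ptOfUnit v ≫ av) ≫ α) = v * v := by
  rw [Category.assoc, D.h2, pow_two, MonObj.comp_mul, Category.comp_id, GmPts.unitOfPt_mul,
    GmPts.unitOfPt_ptOfUnit]

theorem A_conj_P (v : (Γ(X.left, ⊤))ˣ) (a : Γ(X.left, ⊤)) :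
    A i av v * P pp a = P pp ((v : Γ(X.left, ⊤)) * (v : Γ(X.left, ⊤)) * a) * A i av v := by
  have h := conj_P D (GmPts.ptOfUnit v ≫ av) a
  rw [unitOfPt_av D, Category.assoc, Units.val_mul] at h
  rw [← h, A]
  simp [_root_.mul_assoc]

theorem A_conj_M (v : (Γ(X.left, ⊤))ˣ) (a : Γ(X.left, ⊤)) :
    A i av v * P pm a = P pm (((v⁻¹ : (Γ(X.left, ⊤))ˣ) : Γ(X.left, ⊤)) * ((v⁻¹ : (Γ(X.left, ⊤))ˣ) : Γ(X.left, ⊤)) * a) * A i av v := by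
  have h := conj_M D (GmPts.ptOfUnit v ≫ av) a
  rw [unitOfPt_av D, Category.assoc, mul_inv, Units.val_mul] at h
  rw [← h, A]
  simp [_root_.mul_assoc]

/-- the commutation rule -/
theorem P_mul_M (a b : Γ(X.left, ⊤)) (u : (Γ(X.left, ⊤))ˣ) (hu : (u : Γ(X.left, ⊤)) = 1 + a * b) :
    P pp a * P pm b = P pm (b * ((u⁻¹ : (Γ(X.left, ⊤))ˣ) : Γ(X.left, ⊤))) * A i av u * P pp (a * ((u⁻¹ : (Γ(X.left, ⊤))ˣ) : Γ(X.left, ⊤))) := by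
  obtain ⟨x', y', z, hz, hx, hy, h⟩ := D.hF X (GaPts.ptOfFn a) (GaPts.ptOfFn b)
    (by rw [GaPts.gaFn_ptOfFn, GaPts.gaFn_ptOfFn, ← hu]; exact u.isUnit)
  simp only [GaPts.gaFn_ptOfFn] at hz hx hy
  have hzu : GmPts.unitOfPt z = u := Units.ext (by rw [GmPts.val_unitOfPt, hz, hu])
  rw [hz, ← hu] at hx hy
  rw [P, P, h, comp_eq_P pm y', comp_eq_P pp x', comp_eq_A, hzu,
    (Units.eq_mul_inv_iff_mul_eq u).mpr hx, (Units.eq_mul_inv_iff_mul_eq u).mpr hy]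

theorem M_mul_P (b a : Γ(X.left, ⊤)) (u : (Γ(X.left, ⊤))ˣ) (hu : (u : Γ(X.left, ⊤)) = 1 + a * b) :
    P pm b * P pp a = P pp (a * ((u⁻¹ : (Γ(X.left, ⊤))ˣ) : Γ(X.left, ⊤))) * (A i av u)⁻¹ * P pm (b * ((u⁻¹ : (Γ(X.left, ⊤))ˣ) : Γ(X.left, ⊤))) := by
  haveI := D.hom_pp; haveI := D.hom_pm
  have h := congrArg (·⁻¹) (P_mul_M D (-a) (-b) u (by rw [hu]; ring))
  simp only [neg_mul, P_neg, mul_inv_rev, inv_inv] at h
  rw [h, _root_.mul_assoc]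

/-- `w(a)`, for `a * a' = -1` -/
def w (pp pm : Red.Ga S ⟶ G) (a a' : Γ(X.left, ⊤)) : X ⟶ G := P pp a * P pm a' * P pp a

theorem w_smul_left (v : (Γ(X.left, ⊤))ˣ) (a a' b b' : Γ(X.left, ⊤)) (ha : a' * a = -1)
    (hb : b = v * a) (hb' : b' * b = -1) : w pp pm b b' = A i av v * w pp pm a a' := by
  haveI := D.hom_pp
  have eb : b' = ((v⁻¹ : (Γ(X.left, ⊤))ˣ) : Γ(X.left, ⊤)) * a' := by
    linear_combination (b' * v * ((v⁻¹ : (Γ(X.left, ⊤))ˣ) : Γ(X.left, ⊤))) * ha +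
      (-(a' * ((v⁻¹ : (Γ(X.left, ⊤))ˣ) : Γ(X.left, ⊤)))) * (hb' - b' * hb) + (-b') * Units.mul_inv v
  rw [w, w, ← _root_.mul_assoc, ← _root_.mul_assoc, A_conj_P D, _root_.mul_assoc _ (A i av v), A_conj_M D, ← _root_.mul_assoc]
  have h := P_mul_M D (b - (v : Γ(X.left, ⊤)) * (v : Γ(X.left, ⊤)) * a) b' v (by
    rw [eb, hb]; linear_combination -(a' * a * (1 - v)) * Units.mul_inv v - (1 - (v : Γ(X.left, ⊤))) * ha)
  calc P pp b * P pm b' * P pp b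
      = P pp ((v : Γ(X.left, ⊤)) * (v : Γ(X.left, ⊤)) * a) *
          (P pp (b - (v : Γ(X.left, ⊤)) * (v : Γ(X.left, ⊤)) * a) * P pm b') * P pp b := by
        simp only [← _root_.mul_assoc, ← P_add]; rw [add_sub_cancel]
    _ = _ := by
        rw [h]; simp only [_root_.mul_assoc, ← P_add]
        congr 3
        · rw [eb]; ring
        · congr 1; rw [hb]; linear_combination (a * (1 - v)) * Units.mul_inv v

theorem w_smul_right (v : (Γ(X.left, ⊤))ˣ) (a a' b b' : Γ(X.left, ⊤)) (ha : a' * a = -1)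
    (hb : b = v * a) (hb' : b' * b = -1) : w pp pm b b' = w pp pm a a' * (A i av v)⁻¹ := by
  haveI := D.hom_pp; haveI := D.hom_pm; haveI := D.hom_i; haveI := D.hom_av
  have h1 : w pp pm (-b) (-b') = A i av v * w pp pm (-a) (-a') :=
    w_smul_left D v (-a) (-a') (-b) (-b') (by rw [← ha]; ring) (by rw [hb]; ring) (by rw [← hb']; ring)
  have e : ∀ c c' : Γ(X.left, ⊤), w pp pm (-c) (-c') = (w pp pm c c')⁻¹ := fun c c' => by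
    simp only [w, P_neg, mul_inv_rev, _root_.mul_assoc]
  rw [e, e] at h1
  rw [← inv_inj, h1, mul_inv_rev, inv_inv]

end Groth.Agent.RankOne

end
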