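import Groth.Agent.Lib.RankOne.Basic
import Mathlib.AlgebraicGeometry.Morphisms.Flat
import Mathlib.RingTheory.AdjoinRoot
import Mathlib.RingTheory.RingHom.FaithfullyFlat

/-! Symmetry of the rank one datum, the braid relation `w(c) = w₋(c')` and consequences. -/

universe u

open CategoryTheory CategoryTheory.Limits MonoidalCategory CartesianMonoidalCategory MonObj AlgebraicGeometry

noncomputable section

namespace Groth.Agent.RankOne

variable {S : Scheme.{u}}

theorem gm_mul_comm {X : Over S} (a b : X ⟶ Red.Gm S) : a * b = b * a :=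
  GmPts.gmFn_injective (by simp only [GmPts.gmFn_mul]; exact _root_.mul_comm _ _)

theorem isMonHom_gmInv : IsMonHom ((𝟙 (Red.Gm S))⁻¹) where
  one_hom := by
    rw [GrpObj.comp_inv, Category.comp_id, one_eq_one]
    exact (inv_one : (1 : 𝟙_ (Over S) ⟶ Red.Gm S)⁻¹ = 1)
  mul_hom := by
    rw [GrpObj.comp_inv, Category.comp_id, mul_eq_mul, MonObj.comp_mul, tensorHom_fst, tensorHom_snd,
      GrpObj.comp_inv, GrpObj.comp_inv, Category.comp_id, Category.comp_id]
    exact (_root_.mul_inv_rev (fst (Red.Gm S) (Red.Gm S)) (snd (Red.Gm S) (Red.Gm S))).trans (gm_mul_comm _ _)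

variable {G T : Over S} [GrpObj G] [GrpObj T]
variable {i : T ⟶ G} {α : T ⟶ Red.Gm S} {pp pm : Red.Ga S ⟶ G} {av : Red.Gm S ⟶ T} {X X' : Over S}

theorem Datum.symm (D : Datum i α pp pm av) : Datum i α⁻¹ pm pp ((𝟙 (Red.Gm S))⁻¹ ≫ av) where
  hom_i := D.hom_i
  hom_pp := D.hom_pm
  hom_pm := D.hom_pp
  hom_av := by have := isMonHom_gmInv (S := S); have := D.hom_av; infer_instance
  hpp := fun X t y => by
    obtain ⟨y', h1, h2⟩ := D.hpm X t y
    refine ⟨y', h1, ?_⟩
    rw [GrpObj.comp_inv, ← h2]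
    linear_combination -(Red.gaFn y') * GmPts.gmFn_inv (t ≫ α)
  hpm := fun X t x => by
    obtain ⟨x', h1, h2⟩ := D.hpp X t x
    refine ⟨x', h1, ?_⟩
    rw [GrpObj.comp_inv, h2]
    linear_combination Red.gaFn x * GmPts.gmFn_inv (t ≫ α)
  h2 := by
    rw [GrpObj.comp_inv, Category.assoc, D.h2]
    simp [pow_two, MonObj.comp_mul]
    exact (_root_.mul_inv_rev (𝟙 (Red.Gm S))⁻¹ (𝟙 (Red.Gm S))⁻¹).trans
      (congrArg₂ (· * ·) (inv_inv (𝟙 (Red.Gm S))) (inv_inv (𝟙 (Red.Gm S))))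
  hF := fun X x y hu => by
    have := D.hom_i; have := D.hom_av
    have hu' : ((hu.unit : (Γ(X.left, ⊤))ˣ) : Γ(X.left, ⊤)) = 1 + Red.gaFn y * Red.gaFn x := by
      rw [IsUnit.unit_spec]; ring
    refine ⟨GaPts.ptOfFn (Red.gaFn x * ((hu.unit⁻¹ : (Γ(X.left, ⊤))ˣ) : Γ(X.left, ⊤))),
      GaPts.ptOfFn (Red.gaFn y * ((hu.unit⁻¹ : (Γ(X.left, ⊤))ˣ) : Γ(X.left, ⊤))), GmPts.ptOfUnit hu.unit,
      ?_, ?_, ?_, ?_⟩
    · rw [GmPts.gmFn_ptOfUnit, IsUnit.unit_spec]
    · rw [GaPts.gaFn_ptOfFn, GmPts.gmFn_ptOfUnit, Units.inv_mul_cancel_right]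
    · rw [GaPts.gaFn_ptOfFn, GmPts.gmFn_ptOfUnit, Units.inv_mul_cancel_right]
    · rw [comp_eq_P pm x, comp_eq_P pp y, M_mul_P D _ _ hu.unit hu',
        show (GmPts.ptOfUnit hu.unit ≫ ((𝟙 (Red.Gm S))⁻¹ ≫ av) ≫ i) = (A i av hu.unit)⁻¹ by
          rw [← A_inv, A, Category.assoc, ← Category.assoc, GrpObj.comp_inv, Category.comp_id,
            GmPts.ptOfUnit_inv]]
      rfl

theorem A_symm (D : Datum i α pp pm av) (v : (Γ(X.left, ⊤))ˣ) :
    A i ((𝟙 (Red.Gm S))⁻¹ ≫ av) v = (A i av v)⁻¹ := by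
  have := D.hom_i; have := D.hom_av
  rw [← A_inv, A, A, Category.assoc, ← Category.assoc, GrpObj.comp_inv, Category.comp_id, GmPts.ptOfUnit_inv]

/-! ### pulling back -/

theorem comp_P (g : X' ⟶ X) (f : Red.Ga S ⟶ G) (a : Γ(X.left, ⊤)) : g ≫ P f a = P f (g.left.appTop a) := by
  rw [P, P, ← Category.assoc, GaPts.ptOfFn_comp]

theorem comp_w (g : X' ⟶ X) (a a' : Γ(X.left, ⊤)) :
    g ≫ w pp pm a a' = w pp pm (g.left.appTop a) (g.left.appTop a') := by
  simp only [w, MonObj.comp_mul, comp_P]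

/-- the braid relation, given `l` with `l` and `1 - l` invertible -/
theorem braid_of_unit (D : Datum i α pp pm av) (c c' : Γ(X.left, ⊤)) (hc : c' * c = -1)
    (l m : (Γ(X.left, ⊤))ˣ) (hlm : (l : Γ(X.left, ⊤)) + m = 1) : w pp pm c c' = w pm pp c' c := by
  have := D.hom_i; have := D.hom_av; have := D.hom_pp; have := D.hom_pm
  set L : Γ(X.left, ⊤) := (l : Γ(X.left, ⊤))
  set M : Γ(X.left, ⊤) := (m : Γ(X.left, ⊤))
  set L' : Γ(X.left, ⊤) := ((l⁻¹ : (Γ(X.left, ⊤))ˣ) : Γ(X.left, ⊤))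
  set M' : Γ(X.left, ⊤) := ((m⁻¹ : (Γ(X.left, ⊤))ˣ) : Γ(X.left, ⊤))
  have e1 : L * L' = 1 := Units.mul_inv l
  have e2 : M * M' = 1 := Units.mul_inv m
  have h1 := P_mul_M D c (L * c') m (by change M = _; linear_combination hlm - L * hc)
  have h2 := M_mul_P D (M * c') c l (by change L = _; linear_combination hlm - M * hc)
  have hv : ((m * l⁻¹ : (Γ(X.left, ⊤))ˣ) : Γ(X.left, ⊤)) = M * L' := Units.val_mul _ _
  have hv' : (((m * l⁻¹)⁻¹ : (Γ(X.left, ⊤))ˣ) : Γ(X.left, ⊤)) = M' * L := by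
    rw [mul_inv, inv_inv, Units.val_mul]
  have hd : (M * c * L') * (L * c' * M') = -1 := by
    linear_combination (M * M' * L * L') * hc - e1 - (L * L') * e2
  have step : w pp pm c c' = w pm pp (L * c' * M') (M * c * L') * A i av (m * l⁻¹) := by
    calc w pp pm c c' = (P pp c * P pm (L * c')) * (P pm (M * c') * P pp c) := by
          rw [w]
          conv_lhs => rw [show c' = L * c' + M * c' by rw [← add_mul, hlm, _root_.one_mul], P_add]
          simp only [_root_.mul_assoc]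
      _ = P pm (L * c' * M') * (A i av m * (P pp (c * M') * P pp (c * L'))) * (A i av l)⁻¹ *
            P pm (M * c' * L') := by rw [h1, h2]; simp only [_root_.mul_assoc]; rfl
      _ = _ := by
          rw [← P_add, A_conj_P D, w, A_mul, A_inv]
          have hP : M * M * (c * M' + c * L') = M * c * L' := by
            linear_combination (M * c) * e2 + (M * c * L') * hlm - (M * c) * e1
          rw [show (m : Γ(X.left, ⊤)) * (m : Γ(X.left, ⊤)) = M * M from rfl, hP]
          have hM : P pm (L * c' * M') * (A i av m * (A i av l)⁻¹) =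
              A i av m * (A i av l)⁻¹ * P pm (M * c' * L') := by
            rw [← A_inv, ← A_mul, A_conj_M D, hv']
            congr 2
            linear_combination -(L * c' * M') * e1 - (L * c' * M' * L * L') * e2
          simp only [_root_.mul_assoc] at hM ⊢
          rw [hM]
  have hs := w_smul_left D.symm (l * m⁻¹) c' c (L * c' * M') (M * c * L') (by rw [_root_.mul_comm, hc])
    (by rw [Units.val_mul]; ring) hd
  have hs2 := w_smul_right D.symm (l * m⁻¹) c' c (L * c' * M') (M * c * L') (by rw [_root_.mul_comm, hc])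
    (by rw [Units.val_mul]; ring) hd
  rw [A_symm D, inv_inv] at hs2
  rw [step, hs2, _root_.mul_assoc, ← A_mul, show l * m⁻¹ * (m * l⁻¹) = (1 : (Γ(X.left, ⊤))ˣ) by
    rw [_root_.mul_assoc, inv_mul_cancel_left, mul_inv_cancel], A_one, _root_.mul_one]

/-! ### the cover -/

/-- `ℤ[λ]/(λ² - λ + 1)` -/
abbrev Eis : Type u := AdjoinRoot (Polynomial.X ^ 2 - Polynomial.X + 1 : Polynomial (ULift.{u} ℤ))

theorem exists_cover (X : Over S) : ∃ (X' : Over S) (g : X' ⟶ X) (l m : (Γ(X'.left, ⊤))ˣ),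
    Epi g ∧ (l : Γ(X'.left, ⊤)) + (m : Γ(X'.left, ⊤)) = 1 := by
  let f : Polynomial (ULift.{u} ℤ) := Polynomial.X ^ 2 - Polynomial.X + 1
  have hf : f.Monic := by simp only [f]; monicity!
  have hd : f.degree = 2 := by
    simp only [f]; compute_degree!
  haveI : IsDomain (ULift.{u} ℤ) := MulEquiv.isDomain ℤ ULift.ringEquiv.toMulEquiv
  haveI : Nontrivial Eis.{u} := AdjoinRoot.nontrivial _ (by rw [hd]; decide)
  haveI : Module.Free (ULift.{u} ℤ) Eis.{u} := hf.free_adjoinRoot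
  haveI : Module.FaithfullyFlat (ULift.{u} ℤ) Eis.{u} := inferInstance
  have hff : (algebraMap (ULift.{u} ℤ) Eis.{u}).FaithfullyFlat :=
    RingHom.faithfullyFlat_algebraMap_iff.mpr ‹Module.FaithfullyFlat (ULift.{u} ℤ) Eis.{u}›
  let c := Spec.map (CommRingCat.ofHom (algebraMap (ULift.{u} ℤ) Eis.{u}))
  obtain ⟨hflat, hsurj⟩ := RingHom.FaithfullyFlat.iff_flat_and_comap_surjective.mp hff
  haveI : Flat c := (HasRingHomProperty.Spec_iff (P := @Flat)).mpr hflat
  haveI : Surjective c := (surjective_iff c).mpr hsurj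
  let P := pullback (GmPts.toBaseZ X.left) c
  haveI : Epi (pullback.fst (GmPts.toBaseZ X.left) c) := Flat.epi_of_flat_of_surjective _
  let X' : Over S := Over.mk (pullback.fst (GmPts.toBaseZ X.left) c ≫ X.hom)
  let g : X' ⟶ X := Over.homMk (pullback.fst (GmPts.toBaseZ X.left) c)
  haveI : Epi g.left := ‹Epi (pullback.fst (GmPts.toBaseZ X.left) c)›
  let φ : Eis.{u} →+* Γ(X'.left, ⊤) :=
    ((Scheme.ΓSpecIso (CommRingCat.of Eis.{u})).inv ≫ (pullback.snd (GmPts.toBaseZ X.left) c).appTop).hom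
  let r : Eis.{u} := AdjoinRoot.root f
  have hr : r * (1 - r) = 1 := by
    have h := AdjoinRoot.eval₂_root f
    simp only [f, Polynomial.eval₂_add, Polynomial.eval₂_sub, Polynomial.eval₂_pow, Polynomial.eval₂_X,
      Polynomial.eval₂_one] at h
    linear_combination -h
  refine ⟨X', g, Units.map φ.toMonoidHom ⟨r, 1 - r, hr, by rw [_root_.mul_comm, hr]⟩,
    Units.map φ.toMonoidHom ⟨1 - r, r, by rw [_root_.mul_comm, hr], hr⟩, Over.epi_of_epi_left _, ?_⟩
  change φ r + φ (1 - r) = 1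
  rw [← map_add, add_sub_cancel, map_one]

/-- the braid relation `P c * M c' * P c = M c' * P c * M c'` -/
theorem braid (D : Datum i α pp pm av) (c c' : Γ(X.left, ⊤)) (hc : c' * c = -1) :
    w pp pm c c' = w pm pp c' c := by
  obtain ⟨X', g, l, m, hg, hlm⟩ := exists_cover X
  rw [← cancel_epi g, comp_w, comp_w]
  exact braid_of_unit D _ _ (by rw [← map_mul, hc, map_neg, map_one]) l m hlm

/-- `w(c) w(d) = A m` when `m d = -c` -/
theorem w_mul_w (D : Datum i α pp pm av) (c c' d d' : Γ(X.left, ⊤)) (m : (Γ(X.left, ⊤))ˣ)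
    (hc : c' * c = -1) (hd : d' * d = -1) (hm : (m : Γ(X.left, ⊤)) * d = -c) :
    w pp pm c c' * w pp pm d d' = A i av m := by
  have := D.hom_pp; have := D.hom_pm
  have h := w_smul_left D m (-d) (-d') c c' (by rw [← hd]; ring) (by rw [mul_neg, hm, neg_neg]) hc
  rw [h, show w pp pm (-d) (-d') = (w pp pm d d')⁻¹ by
    simp only [w, P_neg, _root_.mul_inv_rev, _root_.mul_assoc], _root_.mul_assoc, inv_mul_cancel,
    _root_.mul_one]

theorem w_conj_P (D : Datum i α pp pm av) (c c' : Γ(X.left, ⊤)) (hc : c' * c = -1) :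
    w pp pm c c' * P pp c * (w pp pm c c')⁻¹ = P pm c' := by
  rw [mul_inv_eq_iff_eq_mul]
  conv_lhs => rw [braid D c c' hc]
  simp only [w, _root_.mul_assoc]

theorem w_mul_P_pow (D : Datum i α pp pm av) (c c' : Γ(X.left, ⊤)) (hc : c' * c = -1) :
    (w pp pm c c' * P pp c) ^ 3 = 1 := by
  have := D.hom_i; have := D.hom_av
  have e : w pp pm c c' * P pp c = (P pm c' * P pp c) ^ 2 := by
    rw [braid D c c' hc, pow_two]; simp only [w, _root_.mul_assoc]
  have e3 : (P pm c' * P pp c) ^ 3 = A i av (-1) := by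
    rw [← w_mul_w D c c' c c' (-1) hc hc (by simp)]
    conv_rhs => enter [1]; rw [braid D c c' hc]
    simp only [w, pow_succ, pow_zero, _root_.one_mul, _root_.mul_assoc]
  rw [e, ← pow_mul, show 2 * 3 = 3 * 2 from rfl, pow_mul, e3, pow_two, ← A_mul, neg_mul_neg,
    _root_.one_mul, A_one]

end Groth.Agent.RankOne

end
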